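import Groth.Agent.ChainRankLib.Modify
import Groth.Agent.StratLib.Strata
import Groth.Agent.CurveVBLib.Abelian
import Groth.Agent.ProjBunLib.Filt
import Groth.Agent.SeesawLib.Ranks
import Groth.Agent.SeesawLib.Pulled
import Groth.Agent.FittLib.Sheaf
import Groth.Agent.KFlatLib.Stalk

/-!
# Cokernels with constant rank along chains of curves
-/

set_option autoImplicit false
set_option maxHeartbeats 1000000
set_option linter.style.haveILetI false
set_option backward.isDefEq.respectTransparency false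

universe u

open AlgebraicGeometry CategoryTheory CategoryTheory.Limits IsLocalRing TopologicalSpace

noncomputable section

namespace ChainRankLib

open StratLib (rkAt low)

/-- A module of finite type of constant fibre rank on a reduced scheme is finite locally free. -/
theorem isFinLocFree_of_rkAt {X : Scheme.{u}} [IsReduced X] (Q : X.Modules) [Coh.IsQCoh Q] (hft : CohB1.IsFT Q)
    (r : ℕ) (h : ∀ x, rkAt Q x = r) : FlatMod.IsFinLocFree Q := by
  have hlow : low Q r = ⊥ := Scheme.IdealSheafData.support_eq_top_iff.1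
    (SetLike.ext fun x => iff_of_true ((StratLib.mem_support_low_iff Q hft x r).2 (h x).ge) trivial)
  have h1 := (StratLib.locFreeOfRank_pullback_iff Q hft (𝟙 X) r).2
    ⟨by rw [hlow, Scheme.IdealSheafData.comap_bot], fun t => (h _).le⟩
  have h2 : FlatMod.IsFinLocFreeOfRank r Q :=
    SeesawLib.isFinLocFreeOfRank_of_iso h1 ((Scheme.Modules.pullbackId X).app Q).symm
  exact SeesawLib.isFinLocFree_of_rank h2

/-- Fibre ranks along a morphism along which a module has a rank. -/
theorem rkAt_of_pullback {X C : Scheme.{u}} (Q : X.Modules) [Coh.IsQCoh Q] (hft : CohB1.IsFT Q) (γ : C ⟶ X) {s₀ : ℕ}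
    (h : FlatMod.IsFinLocFreeOfRank s₀ ((Scheme.Modules.pullback γ).obj Q)) (c : C) : rkAt Q (γ c) = s₀ := by
  obtain ⟨h2, h3⟩ := (StratLib.locFreeOfRank_pullback_iff Q hft γ s₀).1 h
  refine le_antisymm (h3 c) ((StratLib.mem_support_low_iff Q hft _ s₀).1 ?_)
  have h4 : ((low Q s₀).comap γ).support = ⊤ := by rw [h2, Scheme.IdealSheafData.support_bot]
  rw [Scheme.IdealSheafData.support_comap] at h4
  exact h4.ge (Set.mem_univ c)

/-- Constancy of ranks at closed points gives constancy everywhere. -/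
theorem rkAt_eq_of_closed {X : Scheme.{u}} [JacobsonSpace X] (Q : X.Modules) [Coh.IsQCoh Q] (hft : CohB1.IsFT Q)
    (r : ℕ) (h : ∀ x, IsClosed ({x} : Set X) → rkAt Q x = r) (x : X) : rkAt Q x = r := by
  rcases lt_trichotomy (rkAt Q x) r with hlt | heq | hgt
  · exfalso
    obtain ⟨z, hz, hzc⟩ := nonempty_inter_closedPoints (Z := ((low Q r).support : Set X)ᶜ)
      ⟨x, fun hx => absurd ((StratLib.mem_support_low_iff Q hft x r).1 hx) (by omega)⟩
      (low Q r).support.isClosed.isOpen_compl.isLocallyClosed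
    exact hz ((StratLib.mem_support_low_iff Q hft z r).2 (h z hzc).ge)
  · exact heq
  · exfalso
    obtain ⟨z, hz, hzc⟩ := nonempty_inter_closedPoints (Z := ((low Q (r + 1)).support : Set X))
      ⟨x, (StratLib.mem_support_low_iff Q hft x (r + 1)).2 hgt⟩ (low Q (r + 1)).support.isClosed.isLocallyClosed
    have := (StratLib.mem_support_low_iff Q hft z (r + 1)).1 hz
    rw [h z hzc] at this
    omega

variable {k : Type u} [Field k] (X : Scheme.{u}) [X.Over (Spec (CommRingCat.of k))]
    [LocallyOfFiniteType (X ↘ Spec (CommRingCat.of k))] [CompactSpace X] [AlgebraicGeometry.IsReduced X]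

/-- The cokernel of a map of bundles semistable of degree zero on curves is locally free on a chain connected scheme. -/
theorem isFinLocFree_cokernel (x₀ : X) (hx₀ : IsClosed ({x₀} : Set X))
    (hchain : ∀ y z : X, IsClosed ({y} : Set X) → IsClosed ({z} : Set X) → ∃ (n : ℕ) (C : Fin n → Scheme.{u}) (γ : ∀ i, C i ⟶ X),
      (∀ i, AlgebraicGeometry.IsIntegral (C i) ∧ IsProper (γ i ≫ (X ↘ Spec (CommRingCat.of k))) ∧
        Smooth (γ i ≫ (X ↘ Spec (CommRingCat.of k))) ∧ topologicalKrullDim (C i) = 1) ∧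
      _root_.IsConnected (⋃ i, Set.range (γ i).base) ∧ y ∈ ⋃ i, Set.range (γ i).base ∧ z ∈ ⋃ i, Set.range (γ i).base)
    (r r' : ℕ) (E F : X.Modules) (hE : FlatMod.IsFinLocFreeOfRank r E) (hF : FlatMod.IsFinLocFreeOfRank r' F)
    (hEss : ∀ (C : Scheme.{u}) [C.Over (Spec (CommRingCat.of k))], AlgebraicGeometry.IsIntegral C →
      IsProper (C ↘ Spec (CommRingCat.of k)) → Smooth (C ↘ Spec (CommRingCat.of k)) → topologicalKrullDim C = 1 →
      ∀ (γ : C ⟶ X), γ ≫ (X ↘ Spec (CommRingCat.of k)) = C ↘ Spec (CommRingCat.of k) →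
      (Set.range γ.base).Nontrivial →
      ModFun.IsSlopeSemistable k C ((Scheme.Modules.pullback γ).obj E) r ∧
        Curv2.deg k C ((Scheme.Modules.pullback γ).obj E) r = 0)
    (hFss : ∀ (C : Scheme.{u}) [C.Over (Spec (CommRingCat.of k))], AlgebraicGeometry.IsIntegral C →
      IsProper (C ↘ Spec (CommRingCat.of k)) → Smooth (C ↘ Spec (CommRingCat.of k)) → topologicalKrullDim C = 1 →
      ∀ (γ : C ⟶ X), γ ≫ (X ↘ Spec (CommRingCat.of k)) = C ↘ Spec (CommRingCat.of k) →
      (Set.range γ.base).Nontrivial →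
      ModFun.IsSlopeSemistable k C ((Scheme.Modules.pullback γ).obj F) r' ∧
        Curv2.deg k C ((Scheme.Modules.pullback γ).obj F) r' = 0)
    (f : E ⟶ F) : FlatMod.IsFinLocFree (cokernel f) := by
  have hFl := SeesawLib.isFinLocFree_of_rank hF
  rcases Nat.eq_zero_or_pos r' with rfl | hr'
  · have hF0 : IsZero F := ProjBunLib.isZero_of_rank_zero hF
    have hQ0 : IsZero (cokernel f) := IsZero.of_epi (cokernel.π f) hF0
    exact Groth.Agent.PerfLib.isFinLocFree_of_iso (hF0.iso hQ0) hFl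
  rcases Nat.eq_zero_or_pos r with rfl | hr
  · obtain rfl : f = 0 := (ProjBunLib.isZero_of_rank_zero hE).eq_of_src f 0
    exact Groth.Agent.PerfLib.isFinLocFree_of_iso cokernelZeroIsoTarget.symm hFl
  let pX := X ↘ Spec (CommRingCat.of k)
  haveI : IsLocallyNoetherian X := LocallyOfFiniteType.isLocallyNoetherian pX
  haveI : IsNoetherian X := ⟨⟩
  haveI : JacobsonSpace X := LocallyOfFiniteType.jacobsonSpace pX
  have hFc := CurvLib.isCoh_of_locFree hF
  have hQ : Coh.IsCoh (cokernel f) := QCohLib.isCoh_cokernel f (CurvLib.isCoh_of_locFree hE).1 hFc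
  haveI : Coh.IsQCoh (cokernel f) := hQ.1
  have hft : CohB1.IsFT (cokernel f) := hQ.2
  -- constancy along one curve
  have hcurve : ∀ (C : Scheme.{u}) (γ : C ⟶ X), AlgebraicGeometry.IsIntegral C → IsProper (γ ≫ pX) →
      Smooth (γ ≫ pX) → topologicalKrullDim C = 1 → ∀ a b : C, rkAt (cokernel f) (γ a) = rkAt (cokernel f) (γ b) := by
    intro C γ hi hp hs hd a b
    by_cases hnt : (Set.range γ.base).Nontrivial
    swap
    · rw [Set.not_nontrivial_iff.1 hnt ⟨a, rfl⟩ ⟨b, rfl⟩]
    letI : C.Over (Spec (CommRingCat.of k)) := ⟨γ ≫ pX⟩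
    haveI := hi
    haveI : IsProper (C ↘ Spec (CommRingCat.of k)) := hp
    haveI : Smooth (C ↘ Spec (CommRingCat.of k)) := hs
    obtain ⟨hE1, hE2⟩ := hEss C hi hp hs hd γ rfl hnt
    obtain ⟨hF1, hF2⟩ := hFss C hi hp hs hd γ rfl hnt
    obtain ⟨-, s₀, hs₀, -⟩ := CurveVBLib.ker_coker_semistable (k := k) hd
      (SeesawLib.isFinLocFreeOfRank_pullback γ hE) (SeesawLib.isFinLocFreeOfRank_pullback γ hF) hr hr' hE1 hF1
      (by rw [hE2, hF2, zero_mul, zero_mul]) ((Scheme.Modules.pullback γ).map f)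
    haveI : PreservesColimitsOfSize.{0, 0} (Scheme.Modules.pullback γ) :=
      (Scheme.Modules.pullbackPushforwardAdjunction γ).leftAdjoint_preservesColimits
    have h := SeesawLib.isFinLocFreeOfRank_of_iso hs₀ (PreservesCokernel.iso (Scheme.Modules.pullback γ) f)
    rw [rkAt_of_pullback (cokernel f) hft γ h a, rkAt_of_pullback (cokernel f) hft γ h b]
  -- constancy up to the closure of a curve
  have hclosure : ∀ (C : Scheme.{u}) (γ : C ⟶ X), AlgebraicGeometry.IsIntegral C → IsProper (γ ≫ pX) →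
      Smooth (γ ≫ pX) → topologicalKrullDim C = 1 → ∀ (z : X) (a : C), z ∈ closure (Set.range γ) →
      rkAt (cokernel f) z = rkAt (cokernel f) (γ a) := by
    intro C γ hi hp hs hd z a hz
    haveI := hi
    haveI := hp
    haveI := hs
    have hsp : γ (genericPoint C) ⤳ z := by
      rw [specializes_iff_mem_closure]
      refine closure_minimal ?_ isClosed_closure hz
      rintro _ ⟨b, rfl⟩
      exact specializes_iff_mem_closure.1 (((genericPoint_spec C).specializes (trivial : b ∈ Set.univ)).map γ.continuous)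
    by_cases hne : z = γ (genericPoint C)
    · rw [hne]; exact hcurve C γ hi hp hs hd _ a
    obtain ⟨γ', hγ', hη, b, hb⟩ := exists_modify pX (γ ≫ pX) hd γ rfl hsp hne
    rw [← hb, hcurve C γ' hi (hγ'.symm ▸ hp) (hγ'.symm ▸ hs) hd b (genericPoint C), hη]
    exact hcurve C γ hi hp hs hd _ a
  have hconst : ∀ y, IsClosed ({y} : Set X) → rkAt (cokernel f) y = rkAt (cokernel f) x₀ := by
    intro y hy
    obtain ⟨n, C, γ, hC, hconn, hyA, hxA⟩ := hchain y x₀ hy hx₀
    obtain ⟨i, a, rfl⟩ := Set.mem_iUnion.1 hyA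
    obtain ⟨j, b, rfl⟩ := Set.mem_iUnion.1 hxA
    by_contra hne
    let G : Set (Fin n) := {l | ∀ c, rkAt (cokernel f) (γ l c) = rkAt (cokernel f) (γ i a)}
    have hi' : i ∈ G := fun c => hcurve _ (γ i) (hC i).1 (hC i).2.1 (hC i).2.2.1 (hC i).2.2.2 c a
    have hj' : j ∉ G := fun h => hne (h b).symm
    obtain ⟨z, -, hz1, hz2⟩ := (isPreconnected_closed_iff.1 hconn.2)
      (⋃ l ∈ G, closure (Set.range (γ l))) (⋃ l ∈ Gᶜ, closure (Set.range (γ l)))
      ((Set.toFinite G).isClosed_biUnion fun _ _ => isClosed_closure)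
      ((Set.toFinite Gᶜ).isClosed_biUnion fun _ _ => isClosed_closure)
      (fun w hw => by
        obtain ⟨l, hl⟩ := Set.mem_iUnion.1 hw
        by_cases h : l ∈ G
        · exact Or.inl (Set.mem_biUnion h (subset_closure hl))
        · exact Or.inr (Set.mem_biUnion h (subset_closure hl)))
      ⟨γ i a, hyA, Set.mem_biUnion hi' (subset_closure ⟨a, rfl⟩)⟩
      ⟨γ j b, hxA, Set.mem_biUnion hj' (subset_closure ⟨b, rfl⟩)⟩
    obtain ⟨l, hl, hzl⟩ := Set.mem_iUnion₂.1 hz1
    obtain ⟨m, hm, hzm⟩ := Set.mem_iUnion₂.1 hz2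
    refine hm fun c => ?_
    haveI := (hC l).1
    rw [← hclosure _ (γ m) (hC m).1 (hC m).2.1 (hC m).2.2.1 (hC m).2.2.2 z c hzm,
      hclosure _ (γ l) (hC l).1 (hC l).2.1 (hC l).2.2.1 (hC l).2.2.2 z (genericPoint (C l)) hzl]
    exact hl _
  exact isFinLocFree_of_rkAt (cokernel f) hft _ (rkAt_eq_of_closed (cokernel f) hft _ hconst)

end ChainRankLib
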