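import Groth.Agent.AlbLib.Extend
import Groth.Agent.HurwitzLib.SmoothCurve
import Groth.Agent.CycC1Lib.Degree
import Groth.Agent.NormalExtLib.Glue

/-!
# Curves through limit points
-/

set_option autoImplicit false
set_option maxHeartbeats 1000000
set_option linter.style.haveILetI false
set_option backward.isDefEq.respectTransparency false
set_option backward.isDefEq.respectTransparency.types false

universe u

open AlgebraicGeometry CategoryTheory CategoryTheory.Limits IsLocalRing TopologicalSpace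

noncomputable section

namespace ChainRankLib

variable {k : Type u} [Field k] {C X : Scheme.{u}} (pX : X ⟶ Spec (CommRingCat.of k)) [LocallyOfFiniteType pX]
  (q : C ⟶ Spec (CommRingCat.of k)) [IsIntegral C] [IsProper q] [Smooth q]

/-- A point in the closure of the image of a curve is the image of a point of the same curve mapped otherwise. -/
theorem exists_modify (hd : topologicalKrullDim C = 1) (γ : C ⟶ X) (hγ : γ ≫ pX = q) {z : X}
    (hz : γ (genericPoint C) ⤳ z) (hne : z ≠ γ (genericPoint C)) :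
    ∃ γ' : C ⟶ X, γ' ≫ pX = q ∧ γ' (genericPoint C) = γ (genericPoint C) ∧ z ∈ Set.range γ' := by
  haveI : IsLocallyNoetherian C := LocallyOfFiniteType.isLocallyNoetherian q
  haveI : CompactSpace C := QuasiCompact.compactSpace_of_compactSpace q
  haveI : IsNoetherian C := ⟨⟩
  letI : C.Over (Spec (CommRingCat.of k)) := ⟨q⟩
  haveI : Smooth (C ↘ Spec (CommRingCat.of k)) := ‹Smooth q›
  let η := genericPoint C
  let φ : X.presheaf.stalk z ⟶ C.functionField := X.presheaf.stalkSpecializes hz ≫ γ.stalkMap η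
  have hφ : Spec.map φ ≫ X.fromSpecStalk z = C.fromSpecStalk η ≫ γ := by
    rw [Spec.map_comp, Category.assoc, Scheme.SpecMap_stalkSpecializes_fromSpecStalk,
      Scheme.SpecMap_stalkMap_fromSpecStalk]
  obtain ⟨V, hV, hVloc⟩ := IsLocalRing.exists_factor_valuationRing φ.hom
  let ψ : X.presheaf.stalk z ⟶ CommRingCat.of V := CommRingCat.ofHom (φ.hom.codRestrict V.toSubring hV)
  let ι : CommRingCat.of V ⟶ C.functionField := CommRingCat.ofHom (algebraMap V C.functionField)
  have hψ : ψ ≫ ι = φ := rfl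
  let i₂ : Spec (CommRingCat.of V) ⟶ Spec (CommRingCat.of k) := Spec.map ψ ≫ X.fromSpecStalk z ≫ pX
  have hsq : CommSq (C.fromSpecStalk η) (Spec.map ι) q i₂ := ⟨by
    show _ = Spec.map ι ≫ Spec.map ψ ≫ X.fromSpecStalk z ≫ pX
    rw [← Spec.map_comp_assoc, hψ, ← Category.assoc (Spec.map φ), hφ, Category.assoc, hγ]⟩
  have hC : ValuativeCriterion q := by
    have h := IsProper.eq_valuativeCriterion
    have hp : IsProper q := inferInstance
    rw [h] at hp
    exact hp.1.1.1
  obtain ⟨l, hl₁, hl₂⟩ := (hC.existence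
    { R := V, K := C.functionField, i₁ := C.fromSpecStalk η, i₂ := i₂, commSq := hsq }).exists_lift
  dsimp only at hl₁ hl₂
  let c : C := l (closedPoint V)
  let f : C.presheaf.stalk c ⟶ CommRingCat.of V := Scheme.stalkClosedPointTo l
  have hl : Spec.map f ≫ C.fromSpecStalk c = l := Scheme.Spec_stalkClosedPointTo_fromSpecStalk l
  have hsp : η ⤳ c := (genericPoint_spec C).specializes trivial
  have hfι : f ≫ ι = C.presheaf.stalkSpecializes hsp := by
    refine Spec.map_injective ((cancel_mono (C.fromSpecStalk c)).1 ?_)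
    rw [Spec.map_comp, Category.assoc, hl, Scheme.SpecMap_stalkSpecializes_fromSpecStalk]
    exact hl₁
  have hlocφ : ∀ [IsLocalHom ι.hom], False := by
    intro _
    haveI : IsLocalHom φ.hom := by
      rw [← hψ]
      exact @RingHom.isLocalHom_comp _ _ _ _ _ _ _ _ ‹IsLocalHom ι.hom› hVloc
    apply hne
    have h := congrArg (fun r : Spec C.functionField ⟶ X => r (closedPoint C.functionField)) hφ
    simp only [Scheme.Hom.comp_apply, Scheme.fromSpecStalk_closedPoint] at h
    rw [show (Spec.map φ) (closedPoint C.functionField) = closedPoint (X.presheaf.stalk z) from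
      IsLocalRing.comap_closedPoint φ.hom, Scheme.fromSpecStalk_closedPoint] at h
    exact h.trans (congrArg γ C.fromSpecStalk_closedPoint)
  have hcη : c ≠ η := by
    intro h
    have hsurj : Function.Surjective ι.hom := fun w => by
      haveI : IsIso (C.presheaf.stalkSpecializes hsp) := by
        have : ∀ {a : C} (e : a = η) (hs : η ⤳ a), IsIso (C.presheaf.stalkSpecializes hs) := fun e hs => by
          subst e
          rw [TopCat.Presheaf.stalkSpecializes_refl]
          infer_instance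
        exact this h hsp
      obtain ⟨a, rfl⟩ := ((ConcreteCategory.isIso_iff_bijective (C.presheaf.stalkSpecializes hsp)).1 inferInstance).2 w
      exact ⟨f a, congrArg (fun r : C.presheaf.stalk c ⟶ C.functionField => r a) hfι⟩
    haveI : IsLocalHom ι.hom := Function.Surjective.isLocalHom _ hsurj
    exact hlocφ
  have hc : IsClosed ({c} : Set C) := by
    have hne' : closure ({c} : Set C) ≠ Set.univ := fun h =>
      hcη ((genericPoint_spec C).eq (h : IsGenericPoint c (Set.univ : Set C))).symm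
    obtain ⟨-, hcl⟩ := CurvLib.finite_isClosed_of_dim_le_zero isClosed_closure
      (CurvLib.topologicalKrullDim_le_zero_of_lt hd isClosed_closure hne')
    exact hcl c (subset_closure rfl)
  haveI hdvr : IsDiscreteValuationRing (C.presheaf.stalk c) := HurwitzLib.dvr_stalk_closed (k := k) hd hc
  haveI : IsLocalHom f.hom := inferInstanceAs (IsLocalHom (Scheme.stalkClosedPointTo l).hom)
  have hbij : Function.Bijective f.hom := by
    have h := bijective_rangeRestrict_comp_of_valuationRing (R := C.presheaf.stalk c) (S := V) (K := C.functionField)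
      f.hom ι.hom (congrArg CommRingCat.Hom.hom hfι)
    have h' : Function.Bijective ι.hom.rangeRestrict :=
      ⟨fun a b e => Subtype.ext (Subtype.ext_iff.1 e :), ι.hom.rangeRestrict_surjective⟩
    exact (Function.Bijective.of_comp_iff' h' f.hom).1 h
  haveI : IsIso f := (ConcreteCategory.isIso_iff_bijective f).2 hbij
  let φ0 : Spec (C.presheaf.stalk c) ⟶ X := Spec.map (ψ ≫ inv f) ≫ X.fromSpecStalk z
  have hφ0q : φ0 ≫ pX = C.fromSpecStalk c ≫ q := by
    rw [← cancel_epi (Spec.map f), ← Category.assoc (Spec.map f) (C.fromSpecStalk c), hl, hl₂]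
    simp only [φ0, Category.assoc]
    rw [← Spec.map_comp_assoc, Category.assoc, IsIso.inv_hom_id, Category.comp_id]
  obtain ⟨W, hcW, fW, hfac, hover⟩ := spread_out_of_isGermInjective' q pX (x := c) φ0 hφ0q
  have hfWc : fW ⟨c, hcW⟩ = z := by
    have h := congrArg (fun r : Spec (C.presheaf.stalk c) ⟶ X => r (closedPoint _)) hfac
    simp only [Scheme.Hom.comp_apply] at h
    have h1 : (W.fromSpecStalkOfMem c hcW) (closedPoint _) = ⟨c, hcW⟩ := W.ι.isEmbedding.injective (by
      rw [← Scheme.Hom.comp_apply, Scheme.Opens.fromSpecStalkOfMem_ι, Scheme.fromSpecStalk_closedPoint]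
      rfl)
    rw [h1] at h
    rw [← h]
    simp only [φ0, Scheme.Hom.comp_apply]
    haveI : IsLocalHom ψ.hom := hVloc
    haveI : IsLocalHom (ψ ≫ inv f).hom :=
      @RingHom.isLocalHom_comp _ _ _ _ _ _ _ _ (isLocalHom_of_isIso (inv f)) hVloc
    rw [show (Spec.map (ψ ≫ inv f)) (closedPoint _) = closedPoint (X.presheaf.stalk z) from
      IsLocalRing.comap_closedPoint (ψ ≫ inv f).hom, Scheme.fromSpecStalk_closedPoint]
  -- shrink into an affine neighbourhood
  obtain ⟨U, hU, hzU, -⟩ := exists_isAffineOpen_mem_and_subset (X := X) (x := z) (U := ⊤) trivial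
  haveI : IsAffine U.toScheme := hU
  haveI : IsSeparated (U.ι ≫ pX) := inferInstance
  have hηU : η ∈ γ ⁻¹ᵁ U := hz.mem_open U.2 hzU
  have hbad : (((γ ⁻¹ᵁ U : C.Opens) : Set C)ᶜ \ {c}).Finite ∧ IsClosed (((γ ⁻¹ᵁ U : C.Opens) : Set C)ᶜ \ {c}) := by
    have hK := (γ ⁻¹ᵁ U).2.isClosed_compl
    obtain ⟨hfin, hcl⟩ := CurvLib.finite_isClosed_of_dim_le_zero hK
      (CurvLib.topologicalKrullDim_le_zero_of_lt hd hK fun e => (e.ge (Set.mem_univ η)) hηU)
    refine ⟨hfin.subset Set.diff_subset, ?_⟩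
    rw [← Set.biUnion_of_singleton (((γ ⁻¹ᵁ U : C.Opens) : Set C)ᶜ \ {c})]
    exact (hfin.subset Set.diff_subset).isClosed_biUnion fun y hy => hcl y hy.1
  let G : C.Opens := ⟨(((γ ⁻¹ᵁ U : C.Opens) : Set C)ᶜ \ {c})ᶜ, hbad.2.isOpen_compl⟩
  let W₁ : C.Opens := (W.ι ''ᵁ (fW ⁻¹ᵁ U)) ⊓ G
  have hcW₁ : c ∈ W₁ := ⟨⟨⟨c, hcW⟩, show fW ⟨c, hcW⟩ ∈ U from hfWc.symm ▸ hzU, rfl⟩, fun h => h.2 rfl⟩
  have hW₁W : W₁ ≤ W := fun y hy => by
    obtain ⟨w, -, rfl⟩ := hy.1
    exact w.2
  let O : C.Opens := ⟨({c} : Set C)ᶜ, hc.isOpen_compl⟩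
  let T := (O ⊓ W₁).toScheme
  let a₁ : T ⟶ X := (O ⊓ W₁).ι ≫ γ
  let a₂ : T ⟶ X := C.homOfLE (inf_le_right.trans hW₁W) ≫ fW
  have hr₁ : Set.range a₁ ⊆ Set.range U.ι := by
    rintro _ ⟨t, rfl⟩
    rw [Scheme.Opens.range_ι]
    by_contra h
    exact t.2.2.2 ⟨h, fun e => t.2.1 e⟩
  have hr₂ : Set.range a₂ ⊆ Set.range U.ι := by
    rintro _ ⟨t, rfl⟩
    rw [Scheme.Opens.range_ι]
    obtain ⟨w, hw, hwt⟩ := t.2.2.1
    have : C.homOfLE (inf_le_right.trans hW₁W) t = w := W.ι.isEmbedding.injective (by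
      rw [← Scheme.Hom.comp_apply, Scheme.homOfLE_ι]
      exact hwt.symm)
    show (C.homOfLE _ ≫ fW) t ∈ U
    rw [Scheme.Hom.comp_apply, this]
    exact hw
  have hagree : a₁ = a₂ := by
    have hηW₁ : η ∈ W₁ := hsp.mem_open W₁.2 hcW₁
    have hηT : η ∈ O ⊓ W₁ := ⟨Ne.symm hcη, hηW₁⟩
    let j : Spec (C.presheaf.stalk η) ⟶ T := (O ⊓ W₁).fromSpecStalkOfMem η hηT
    haveI : IsDominant j := by
      refine ⟨fun w => ?_⟩
      have hgen : (O ⊓ W₁).ι (j (closedPoint _)) = η := by
        rw [← Scheme.Hom.comp_apply, Scheme.Opens.fromSpecStalkOfMem_ι, Scheme.fromSpecStalk_closedPoint]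
      refine closure_mono (show {j (closedPoint _)} ⊆ Set.range j from Set.singleton_subset_iff.2 ⟨_, rfl⟩) ?_
      rw [← specializes_iff_mem_closure, ← (O ⊓ W₁).ι.isOpenEmbedding.isInducing.specializes_iff, hgen]
      exact (genericPoint_spec C).specializes trivial
    haveI : IsReduced T := inferInstance
    rw [← IsOpenImmersion.lift_fac U.ι a₁ hr₁, ← IsOpenImmersion.lift_fac U.ι a₂ hr₂]
    congr 1
    refine ext_of_isDominant_of_isSeparated (U.ι ≫ pX) ?_ j ?_
    · rw [IsOpenImmersion.lift_fac_assoc, IsOpenImmersion.lift_fac_assoc]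
      simp only [a₁, a₂, Category.assoc, hγ, hover, Scheme.homOfLE_ι_assoc]
    · rw [← cancel_mono U.ι, Category.assoc, Category.assoc, IsOpenImmersion.lift_fac, IsOpenImmersion.lift_fac]
      have e₁ : j ≫ a₁ = C.fromSpecStalk η ≫ γ := by
        rw [← Category.assoc, Scheme.Opens.fromSpecStalkOfMem_ι]
      have e₂ : j ≫ C.homOfLE (inf_le_right.trans hW₁W) =
          Spec.map (C.presheaf.stalkSpecializes hsp) ≫ W.fromSpecStalkOfMem c hcW := by
        rw [← cancel_mono W.ι, Category.assoc, Scheme.homOfLE_ι, Scheme.Opens.fromSpecStalkOfMem_ι, Category.assoc,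
          Scheme.Opens.fromSpecStalkOfMem_ι, Scheme.SpecMap_stalkSpecializes_fromSpecStalk]
      rw [e₁, ← Category.assoc j, e₂, Category.assoc, ← hfac]
      simp only [φ0]
      rw [← Spec.map_comp_assoc, ← hfι, Category.assoc, IsIso.inv_hom_id_assoc, hψ, hφ]
  obtain ⟨g', h₁, h₂⟩ := NormalExtLib.exists_glue_sup O W₁ (O.ι ≫ γ) (C.homOfLE hW₁W ≫ fW) (by
    simp only [Scheme.homOfLE_ι_assoc, Scheme.homOfLE_homOfLE_assoc]
    exact hagree)
  have htop : (⊤ : C.Opens) ≤ O ⊔ W₁ := fun y _ => by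
    by_cases hy : y = c
    · exact Or.inr (hy ▸ hcW₁)
    · exact Or.inl hy
  have hg'q : g' ≫ pX = (O ⊔ W₁).ι ≫ q := by
    refine NormalExtLib.hom_ext_sup ?_ ?_
    · rw [← Category.assoc, h₁, Category.assoc, hγ, Scheme.homOfLE_ι_assoc]
    · rw [← Category.assoc, h₂, Category.assoc, hover, Scheme.homOfLE_ι_assoc, Scheme.homOfLE_ι_assoc]
  have hval : ∀ (y : C) (hy : y ∈ O ⊔ W₁), (C.topIso.inv ≫ C.homOfLE htop ≫ g') y = g' ⟨y, hy⟩ := fun y hy => by
    simp only [Scheme.Hom.comp_apply]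
    refine congrArg g' ((O ⊔ W₁).ι.isEmbedding.injective ?_)
    rw [← Scheme.Hom.comp_apply (C.homOfLE htop), Scheme.homOfLE_ι, ← Scheme.Hom.comp_apply, Scheme.toIso_inv_ι]
    rfl
  refine ⟨C.topIso.inv ≫ C.homOfLE htop ≫ g', ?_, ?_, c, ?_⟩
  · simp only [Category.assoc]
    rw [hg'q, Scheme.homOfLE_ι_assoc, Scheme.toIso_inv_ι_assoc]
  · have hηO : η ∈ O := Ne.symm hcη
    rw [hval η (Or.inl hηO)]
    have : (⟨η, Or.inl hηO⟩ : ↥(O ⊔ W₁)) = C.homOfLE le_sup_left ⟨η, hηO⟩ := (O ⊔ W₁).ι.isEmbedding.injective (by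
      rw [← Scheme.Hom.comp_apply (C.homOfLE _), Scheme.homOfLE_ι]; rfl)
    rw [this, ← Scheme.Hom.comp_apply, h₁]
    rfl
  · rw [hval c (Or.inr hcW₁)]
    have : (⟨c, Or.inr hcW₁⟩ : ↥(O ⊔ W₁)) = C.homOfLE le_sup_right ⟨c, hcW₁⟩ := (O ⊔ W₁).ι.isEmbedding.injective (by
      rw [← Scheme.Hom.comp_apply (C.homOfLE _), Scheme.homOfLE_ι]; rfl)
    rw [this, ← Scheme.Hom.comp_apply, h₂, Scheme.Hom.comp_apply]
    refine Eq.trans (congrArg fW ?_) hfWc
    refine W.ι.isEmbedding.injective ?_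
    rw [← Scheme.Hom.comp_apply, Scheme.homOfLE_ι]
    rfl

end ChainRankLib
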